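import Groth.Agent.SubgroupNbhd.Equal
import Groth.Agent.GrpSchLib.SubgroupEqLocus
import Groth.Agent.HomRepLib.Apply
import Groth.Agent.GrpSchLib.MultTypeBC

/-!
# A central subgroup of multiplicative type contained in another one on a fibre is contained nearby

Over an etale neighbourhood both groups are diagonalisable, the inclusion on the fibre comes from a map of character
groups, and the two homomorphisms it gives agree near the fibre.
-/

set_option linter.style.haveILetI false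

universe u

open CategoryTheory CategoryTheory.Limits MonoidalCategory CartesianMonoidalCategory MonObj GrpObj AlgebraicGeometry

namespace Groth.Agent.SubgroupNbhd

set_option backward.isDefEq.respectTransparency.types false

open GrpSchLib

theorem theta_map {S T : Scheme.{u}} (g : T ⟶ S) {A B : Over S} (i : A ⟶ B) {Y : Over T} (a : Y ⟶ Red.bc g A) :
    DSPtsLib.theta g (a ≫ (Over.pullback g).map i) = DSPtsLib.theta g a ≫ i :=
  (Over.mapPullbackAdj g).homEquiv_naturality_right_symm a i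

theorem exists_common_diag {S : Scheme.{u}} {A B : Over S} [GrpObj A] [GrpObj B] (hA : SGA3x.IsMultTypeFT A)
    (hB : SGA3x.IsMultTypeFT B) (s : S) :
    ∃ (S' : Scheme.{u}) (f : S' ⟶ S) (y : S'), Etale f ∧ f y = s ∧
      ∃ (MA MB : Type) (_ : AddCommGroup MA) (_ : AddCommGroup MB), AddGroup.FG MA ∧ AddGroup.FG MB ∧
        Nonempty (Grp.mk (Red.bc f A) ≅ Grp.mk (Red.DS S' MA)) ∧
          Nonempty (Grp.mk (Red.bc f B) ≅ Grp.mk (Red.DS S' MB)) := by
  obtain ⟨S₁, f₁, hf₁, ⟨y₁, rfl⟩, MA, iA, hA', ⟨eA⟩⟩ := MultTypeQI.etale_locally_diag hA s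
  haveI : Etale f₁ := hf₁
  obtain ⟨S₂, f₂, hf₂, ⟨y₂, hy₂⟩, MB, iB, hB', ⟨eB⟩⟩ :=
    MultTypeQI.etale_locally_diag (MultTypeBC.isMultTypeFT_bc f₁ hB) y₁
  haveI : Etale f₂ := hf₂
  obtain ⟨e₁⟩ := MultTypeBC.bc_bc f₂ f₁ B
  exact ⟨S₂, f₂ ≫ f₁, y₂, inferInstance, by rw [Scheme.Hom.comp_apply, hy₂], MA, MB, iA, iB, hA', hB',
    HomRepLib.diag_bc f₂ eA, ⟨e₁.symm ≪≫ eB⟩⟩

variable {S : Scheme.{u}} {G A B : Over S} [GrpObj G] [GrpObj A] [GrpObj B] (iA : A ⟶ G) [IsMonHom iA]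
  (iB : B ⟶ G) [IsMonHom iB]

open SubgroupEqLocus (Le)

/-- A central subgroup of multiplicative type lying in another one on a fibre lies in it over a neighbourhood. -/
theorem exists_nhd_le [Mono iA] (hA : SGA3x.IsMultTypeFT A) (hB : SGA3x.IsMultTypeFT B)
    (hfin : IsLocallyNoetherian S ∨ LocallyOfFiniteType G.hom) (s : S)
    (hle : Le iA iB (S.fromSpecResidueField s))
    (hc : ∀ (Y : Over S) (_ : Y ⟶ Over.mk (S.fromSpecResidueField s)) (b : Y ⟶ B) (g : Y ⟶ G),
      g * (b ≫ iB) = (b ≫ iB) * g) :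
    ∃ U : S.Opens, s ∈ U ∧ Le iA iB U.ι := by
  obtain ⟨S', f, y, hf, rfl, MA, MB, _, _, hA', hB', ⟨eA⟩, ⟨eB⟩⟩ := exists_common_diag hA hB s
  haveI := hf; haveI := hA'; haveI := hB'
  let T : Over S' := Over.mk (S'.fromSpecResidueField y)
  let eAh : Red.bc f A ⟶ Red.DS S' MA := eA.hom.hom.hom
  let eAi : Red.DS S' MA ⟶ Red.bc f A := eA.inv.hom.hom
  let eBh : Red.bc f B ⟶ Red.DS S' MB := eB.hom.hom.hom
  let eBi : Red.DS S' MB ⟶ Red.bc f B := eB.inv.hom.hom
  haveI : IsMonHom eAh := eA.hom.hom.isMonHom_hom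
  haveI : IsMonHom eAi := eA.inv.hom.isMonHom_hom
  haveI : IsMonHom eBh := eB.hom.hom.isMonHom_hom
  haveI : IsMonHom eBi := eB.inv.hom.isMonHom_hom
  have hAhi : eAh ≫ eAi = 𝟙 _ := congrArg (fun k => k.hom.hom) eA.hom_inv_id
  have hBhi : eBh ≫ eBi = 𝟙 _ := congrArg (fun k => k.hom.hom) eB.hom_inv_id
  -- points over the point of the covering lie over the point of the base
  let down : ∀ (Y : Over S') (_ : Y ⟶ T), (Over.map f).obj Y ⟶ Over.mk (S.fromSpecResidueField (f y)) := fun Y t =>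
    Over.homMk (t.left ≫ Spec.map (f.residueFieldMap y)) (by
      show (_ ≫ _) ≫ S.fromSpecResidueField (f y) = Y.hom ≫ f
      rw [Category.assoc, Scheme.Hom.SpecMap_residueFieldMap_fromSpecResidueField, ← Category.assoc]
      exact congrArg (· ≫ f) (Over.w t))
  -- the inclusion on the fibre, as a family
  obtain ⟨a₀, ha₀⟩ := hle _ (down _ (snd (Red.DS S' MB) T)) (DSPtsLib.theta f (fst (Red.DS S' MB) T ≫ eBi))
  obtain ⟨a₁, ha₁⟩ := (DSPtsLib.theta_bijective (g := f) (Y := Red.DS S' MB ⊗ T) (H := A)).2 a₀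
  have key : ∀ (X : Over S') (x : X ⟶ Red.DS S' MB) (t : X ⟶ T),
      DSPtsLib.theta f (lift x t ≫ a₁) ≫ iA = DSPtsLib.theta f (x ≫ eBi) ≫ iB := fun X x t => by
    rw [DSPtsLib.theta_comp, ha₁, Category.assoc, ha₀, ← Category.assoc, ← DSPtsLib.theta_comp, ← Category.assoc,
      lift_fst]
  let φ : Red.DS S' MB ⊗ T ⟶ Red.DS S' MA := a₁ ≫ eAh
  have hφ : AutFam.IsHomFamily (Red.DS S' MB) (Red.DS S' MA) φ := fun X x₁ x₂ t => by
    have h : lift (x₁ * x₂) t ≫ a₁ = (lift x₁ t ≫ a₁) * (lift x₂ t ≫ a₁) := by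
      refine (DSPtsLib.theta_bijective (g := f)).1 ((cancel_mono iA).mp ?_)
      rw [key, MonObj.mul_comp, DSPtsLib.theta_mul, MonObj.mul_comp, DSPtsLib.theta_mul, MonObj.mul_comp, key, key]
    show lift _ _ ≫ a₁ ≫ eAh = (lift _ _ ≫ a₁ ≫ eAh) * (lift _ _ ≫ a₁ ≫ eAh)
    rw [← Category.assoc, h]
    exact (MonObj.mul_comp _ _ eAh).trans (congrArg₂ (· * ·) (Category.assoc _ _ _) (Category.assoc _ _ _))
  obtain ⟨ψ₀, V, hV, hind⟩ := HomRepLib.exists_isInducedOn φ hφ (IsLocalRing.closedPoint (S'.residueField y) : T.left)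
  -- the two homomorphisms
  haveI := HomRepLib.isMonHom_chi (S := S') (M := MA)
  haveI : IsMonHom (Red.DSmap S' ψ₀) := S5427.isMonHom_DSmap S' _
  let w : Red.bc f B ⟶ Red.bc f A := eBh ≫ Red.DSmap S' ψ₀ ≫ eAi
  let uu : Red.bc f B ⟶ Red.bc f G := (Over.pullback f).map iB
  let vv : Red.bc f B ⟶ Red.bc f G := w ≫ (Over.pullback f).map iA
  haveI : IsMonHom uu := inferInstanceAs (IsMonHom ((Over.pullback f).map iB))
  haveI : IsMonHom ((Over.pullback f).map iA : Red.bc f A ⟶ Red.bc f G) := inferInstance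
  haveI : IsMonHom w := inferInstance
  haveI : IsMonHom vv := inferInstance
  obtain ⟨U', hyU', hU'⟩ := exists_nhd_eq uu vv (MultTypeBC.isMultTypeFT_bc f hB)
    (hfin.imp (fun h => by haveI := h; exact LocallyOfFiniteType.isLocallyNoetherian f)
      (fun h => by haveI := h; exact inferInstanceAs (LocallyOfFiniteType (pullback.snd G.hom f)))) y fun Y t h => by
    have hw : lift (h ≫ eBh) t ≫ a₁ = h ≫ w := by
      have h1 := hind Y (h ≫ eBh) t fun z _ => by
        have : z = IsLocalRing.closedPoint (S'.residueField y) :=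
          @Subsingleton.elim _ (inferInstanceAs (Subsingleton (PrimeSpectrum (S'.residueField y)))) _ _
        rw [this]; exact hV
      show _ = h ≫ eBh ≫ Red.DSmap S' ψ₀ ≫ eAi
      rw [← Category.assoc h, ← Category.assoc (h ≫ eBh), ← h1, Category.assoc, Category.assoc, hAhi,
        Category.comp_id]
    refine ⟨(DSPtsLib.theta_bijective (g := f)).1 ?_, fun g => (DSPtsLib.theta_bijective (g := f)).1 ?_⟩
    · show DSPtsLib.theta f (h ≫ (Over.pullback f).map iB) = DSPtsLib.theta f (h ≫ w ≫ (Over.pullback f).map iA)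
      rw [theta_map, ← Category.assoc, theta_map, ← hw, key, Category.assoc, hBhi, Category.comp_id]
    · show DSPtsLib.theta f (g * (h ≫ (Over.pullback f).map iB)) =
        DSPtsLib.theta f ((h ≫ (Over.pullback f).map iB) * g)
      rw [DSPtsLib.theta_mul, DSPtsLib.theta_mul, theta_map]
      exact hc _ (down Y t) _ _
  let g' : (U' : Scheme.{u}) ⟶ S := U'.ι ≫ f
  let U : S.Opens := ⟨Set.range g', g'.isOpenMap.isOpen_range⟩
  refine ⟨U, ⟨⟨y, hyU'⟩, rfl⟩, ?_⟩
  let l : (U' : Scheme.{u}) ⟶ (U : Scheme.{u}) := IsOpenImmersion.lift U.ι g' (by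
    rw [Scheme.Opens.range_ι]; rfl)
  have hl : l ≫ U.ι = g' := IsOpenImmersion.lift_fac _ _ _
  haveI : Etale (l ≫ U.ι) := by rw [hl]; infer_instance
  haveI : Etale l := MorphismProperty.of_postcomp (W := @Etale) (W' := @IsOpenImmersion) l U.ι inferInstance ‹_›
  haveI : Surjective l := ⟨fun x => by
    obtain ⟨z, hz⟩ := x.2
    refine ⟨z, U.ι.isOpenEmbedding.injective ?_⟩
    rw [← Scheme.Hom.comp_apply, hl]
    exact hz⟩
  refine Le.of_covers' l (FpqcDescLib.covers_of_isCovering (FpqcDescLib.isCovering_of_lfp l)) ?_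
  intro Y q b
  let Y' : Over S' := Over.mk (q.left ≫ U'.ι)
  have hY : ((Over.map f).obj Y').hom = Y.hom := by
    show (q.left ≫ U'.ι) ≫ f = Y.hom
    exact ((Category.assoc _ _ _).trans (congrArg (q.left ≫ ·) hl.symm)).trans (Over.w q)
  let eY : (Over.map f).obj Y' ≅ Y := Over.isoMk (Iso.refl _) ((Category.id_comp _).trans hY.symm)
  obtain ⟨h, hh⟩ := (DSPtsLib.theta_bijective (g := f) (Y := Y') (H := B)).2 (eY.hom ≫ b)
  refine ⟨eY.inv ≫ DSPtsLib.theta f (h ≫ w), ?_⟩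
  have h1 := congrArg (DSPtsLib.theta f) (hU' Y' (Over.homMk q.left rfl) h)
  change DSPtsLib.theta f (h ≫ (Over.pullback f).map iB) =
    DSPtsLib.theta f (h ≫ w ≫ (Over.pullback f).map iA) at h1
  rw [theta_map, hh, ← Category.assoc h w, theta_map] at h1
  rw [Category.assoc, ← h1, ← Category.assoc, ← Category.assoc, Iso.inv_hom_id, Category.id_comp]

/-- Containment over an open gives a map of the restrictions. -/
theorem exists_map_of_le {T : Scheme.{u}} {g : T ⟶ S} (h : Le iA iB g) :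
    ∃ ψ : Red.bc g B ⟶ Red.bc g A, ψ ≫ (Over.pullback g).map iA = (Over.pullback g).map iB := by
  obtain ⟨a, ha⟩ := h _ (Over.homMk (Red.bc g B).hom rfl) (DSPtsLib.theta g (𝟙 _))
  obtain ⟨ψ, hψ⟩ := (DSPtsLib.theta_bijective (g := g) (Y := Red.bc g B) (H := A)).2 a
  refine ⟨ψ, (DSPtsLib.theta_bijective (g := g)).1 ?_⟩
  rw [theta_map, hψ, ha, ← theta_map, Category.id_comp]

end Groth.Agent.SubgroupNbhd
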