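import Groth.Agent.GrpSchLib.FixedLocus
import Groth.Agent.GrpSchLib.ConjCentral
import Groth.Agent.MultTypeQI.EtaleLocal
import Mathlib.AlgebraicGeometry.Morphisms.Etale
import Mathlib.RingTheory.Localization.AtPrime.Basic

/-!
# Homomorphisms of a group of multiplicative type equal and central on a fibre are equal nearby

Twisting translations by two homomorphisms gives an action whose fixed points are the points where they agree,
once one of them is central; the fixed locus along the unit section is open.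
-/

set_option linter.style.haveILetI false

universe u

open CategoryTheory CategoryTheory.Limits MonoidalCategory CartesianMonoidalCategory MonObj GrpObj AlgebraicGeometry

namespace Groth.Agent.SubgroupNbhd

set_option backward.isDefEq.respectTransparency.types false

open GrpSchLib
open DiagActionRigid (sp spm spm_left spm_comp)
open DSPtsLib (CoordM)

variable {S : Scheme.{u}} {H G : Over S} [GrpObj H] [GrpObj G] (u v : H ⟶ G) [IsMonHom u] [IsMonHom v]

/-- Translation on the left through `u` and on the right through `v`. -/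
noncomputable def twistAction : AlgGrp.Action H G where
  act := (fst H G ≫ u) * snd H G * (fst H G ≫ v)⁻¹
  one_act := by
    rw [MonObj.comp_mul, MonObj.comp_mul, GrpObj.comp_inv, whiskerRight_fst_assoc, whiskerRight_snd,
      whiskerRight_fst_assoc, IsMonHom.one_hom, IsMonHom.one_hom,
      toUnit_unique (fst (𝟙_ (Over S)) G) (toUnit _), ← Hom.one_def, _root_.one_mul, inv_one,
      _root_.mul_one, leftUnitor_hom]
  mul_act := by
    have hu : ∀ w : H ⟶ G, IsMonHom w → μ[H] ≫ w = (fst H H ≫ w) * (snd H H ≫ w) := fun w _ => by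
      rw [IsMonHom.mul_hom, Hom.mul_def]
      congr 1
    simp only [MonObj.comp_mul, GrpObj.comp_inv, whiskerRight_fst_assoc, whiskerRight_snd, whiskerLeft_fst_assoc,
      whiskerLeft_snd, whiskerLeft_snd_assoc, associator_hom_fst_assoc, associator_hom_snd_fst_assoc,
      associator_hom_snd_snd, hu u inferInstance, hu v inferInstance, _root_.mul_inv_rev, _root_.mul_assoc]

theorem twist_apply {Y : Over S} (h : Y ⟶ H) (g : Y ⟶ G) :
    lift h g ≫ (twistAction u v).act = (h ≫ u) * g * (h ≫ v)⁻¹ := by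
  show lift h g ≫ ((fst H G ≫ u) * snd H G * (fst H G ≫ v)⁻¹) = _
  rw [MonObj.comp_mul, MonObj.comp_mul, GrpObj.comp_inv, lift_fst_assoc, lift_fst_assoc, lift_snd]

theorem twist_one_iff {Y : Over S} (h : Y ⟶ H) :
    lift h (1 : Y ⟶ G) ≫ (twistAction u v).act = 1 ↔ h ≫ u = h ≫ v := by
  rw [twist_apply, _root_.mul_one, mul_inv_eq_one]

set_option maxHeartbeats 800000 in
/-- Two homomorphisms of a group of multiplicative type which are equal and central on the fibre at a point are
equal over a neighbourhood of it. -/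
theorem exists_nhd_eq (hH : SGA3x.IsMultTypeFT H) (hfin : IsLocallyNoetherian S ∨ LocallyOfFiniteType G.hom) (s : S)
    (hs : ∀ (Y : Over S) (_ : Y ⟶ Over.mk (S.fromSpecResidueField s)) (h : Y ⟶ H),
      h ≫ u = h ≫ v ∧ ∀ g : Y ⟶ G, g * (h ≫ u) = (h ≫ u) * g) :
    ∃ U : S.Opens, s ∈ U ∧ ∀ (Y : Over S) (_ : Y ⟶ Over.mk U.ι) (h : Y ⟶ H), h ≫ u = h ≫ v := by
  obtain ⟨S', f, hf, ⟨y, rfl⟩, M, _, hfg, ⟨e⟩⟩ := MultTypeQI.etale_locally_diag hH s
  haveI : Etale f := hf
  haveI := hfg
  obtain ⟨W, hW, hyW, -⟩ := exists_isAffineOpen_mem_and_subset (show y ∈ (⊤ : S'.Opens) from trivial)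
  let R : Type u := Γ(S', W)
  let β : Spec (CommRingCat.of R) ⟶ S := hW.fromSpec ≫ f
  obtain ⟨χ, hnat, hmul, hbij⟩ := SubgroupFactor.exists_char (β := β) f e hW.fromSpec rfl
  have hnoeth : IsLocallyNoetherian S → IsNoetherianRing R := fun _ => by
    haveI : IsLocallyNoetherian S' := LocallyOfFiniteType.isLocallyNoetherian f
    exact IsLocallyNoetherian.component_noetherian ⟨W, hW⟩
  let p : Ideal R := (hW.primeIdealOf ⟨y, hyW⟩).asIdeal
  haveI : p.IsPrime := (hW.primeIdealOf ⟨y, hyW⟩).isPrime
  let Rp := Localization.AtPrime p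
  let β' : Spec (CommRingCat.of Rp) ⟶ S := Spec.map (CommRingCat.ofHom (algebraMap R Rp)) ≫ β
  obtain ⟨χ', hnat', hmul', hbij'⟩ := SubgroupFactor.exists_char (β := β') f e
    (Spec.map (CommRingCat.ofHom (algebraMap R Rp)) ≫ hW.fromSpec) (Category.assoc _ _ _)
  let K := Rp ⧸ IsLocalRing.maximalIdeal Rp
  haveI : (IsLocalRing.maximalIdeal Rp).IsMaximal := IsLocalRing.maximalIdeal.isMaximal Rp
  letI : Field K := Ideal.Quotient.field _
  let bK : Spec (CommRingCat.of K) ⟶ S := Spec.map (CommRingCat.ofHom (Ideal.Quotient.mk _)) ≫ β'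
  have hbK : bK (IsLocalRing.closedPoint K) = f y := by
    show (Spec.map _ ≫ Spec.map _ ≫ hW.fromSpec ≫ f) _ = _
    rw [← Spec.map_comp_assoc, Scheme.Hom.comp_apply, Scheme.Hom.comp_apply]
    refine congrArg f ((congrArg hW.fromSpec (PrimeSpectrum.ext ?_)).trans (hW.fromSpec_primeIdealOf ⟨y, hyW⟩))
    show Ideal.comap ((Ideal.Quotient.mk (IsLocalRing.maximalIdeal Rp)).comp (algebraMap R Rp))
      (IsLocalRing.maximalIdeal K) = p
    rw [IsLocalRing.maximalIdeal_eq_bot, ← Ideal.comap_comap, ← RingHom.ker_eq_comap_bot, Ideal.mk_ker]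
    exact IsLocalization.AtPrime.comap_maximalIdeal Rp p
  obtain ⟨s₀, hs₀, hfix⟩ := SpreadFixed.exists_fixed_away' (twistAction u v) χ hnat
    (hfin.symm.imp id fun h => ⟨hnoeth h, hfg⟩) (1 : sp β R ⟶ G) p fun T _ _ hT f' => by
      letI : Algebra Rp T := (IsLocalization.lift (M := p.primeCompl) (g := algebraMap R T) fun r =>
        hT r.1 r.2).toAlgebra
      haveI : IsScalarTower R Rp T := IsScalarTower.of_algebraMap_eq fun r =>
        (IsLocalization.lift_eq (M := p.primeCompl) (S := Rp) (g := algebraMap R T) (fun r => hT r.1 r.2) r).symm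
      have hw : Spec.map (CommRingCat.ofHom (algebraMap R T)) ≫ β =
          Spec.map (CommRingCat.ofHom (algebraMap Rp T)) ≫ β' := by
        rw [← Spec.map_comp_assoc, ← CommRingCat.ofHom_comp, ← IsScalarTower.algebraMap_eq]
      let k : sp β T ≅ sp β' T := Over.isoMk (Iso.refl _) ((Category.id_comp _).trans hw.symm)
      obtain ⟨c, hc⟩ := (hbij' T).2 (k.inv ≫ χ T f')
      have h1 := ClosedFibreFixed.fixed_of_closedFibre' (twistAction u v) χ' hnat' hmul'
        (hfin.symm.imp id fun h => by
          haveI := hnoeth h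
          exact IsLocalization.isNoetherianRing p.primeCompl Rp inferInstance)
        (fun T' _ _ hT' f'' z => by
          have h2 := hs (sp β' T') (Over.homMk (Spec.map (CommRingCat.ofHom
              (Ideal.Quotient.lift _ (algebraMap Rp T') hT')) ≫
            Spec.map (Scheme.descResidueField (Scheme.stalkClosedPointTo bK)) ≫
            Spec.map (S.residueFieldCongr hbK.symm).hom) (by
            show (_ ≫ _ ≫ _) ≫ S.fromSpecResidueField (f y) = Spec.map (CommRingCat.ofHom (algebraMap Rp T')) ≫ β'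
            rw [Category.assoc, Category.assoc, Scheme.residueFieldCongr_fromSpecResidueField,
              Scheme.descResidueField_stalkClosedPointTo_fromSpecResidueField]
            show _ ≫ Spec.map _ ≫ β' = _
            rw [← Spec.map_comp_assoc, ← CommRingCat.ofHom_comp]
            rfl)) (χ' T' f'')
          rw [twist_apply, ← h2.1, ← h2.2, mul_inv_cancel_right])
        (1 : sp β' Rp ⟶ G) T c
      rw [MonObj.comp_one, twist_one_iff, hc, Category.assoc, Category.assoc] at h1
      rw [MonObj.comp_one, twist_one_iff]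
      exact (cancel_epi k.inv).mp h1
  let Rs := Localization.Away s₀
  let jW : Spec (CommRingCat.of Rs) ⟶ Spec (CommRingCat.of R) := Spec.map (CommRingCat.ofHom (algebraMap R Rs))
  haveI : IsOpenImmersion jW := IsOpenImmersion.of_isLocalization s₀
  let g : Spec (CommRingCat.of Rs) ⟶ S := jW ≫ β
  haveI : Etale g := inferInstanceAs (Etale (jW ≫ hW.fromSpec ≫ f))
  let U : S.Opens := ⟨Set.range g, g.isOpenMap.isOpen_range⟩
  refine ⟨U, ?_, fun Y q h => ?_⟩
  · have hp : (⟨p, inferInstance⟩ : PrimeSpectrum R) ∈ Set.range jW := by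
      show _ ∈ Set.range (PrimeSpectrum.comap (algebraMap R Rs))
      rw [PrimeSpectrum.localization_away_comap_range Rs s₀]
      exact hs₀
    obtain ⟨r, hr⟩ := hp
    refine ⟨r, ?_⟩
    show (jW ≫ hW.fromSpec ≫ f) r = f y
    rw [Scheme.Hom.comp_apply, Scheme.Hom.comp_apply, hr]
    exact congrArg f (hW.fromSpec_primeIdealOf ⟨y, hyW⟩)
  let Y' : Over S := Over.mk (pullback.fst Y.hom g ≫ Y.hom)
  let p' : Y' ⟶ Y := Over.homMk (pullback.fst Y.hom g) rfl
  haveI : Surjective (pullback.fst Y.hom g) := ⟨fun z => by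
    have hz : Y.hom z ∈ Set.range g := by
      have hzU := (q.left z).2
      have : Y.hom z = U.ι (q.left z) := by
        rw [← Scheme.Hom.comp_apply]
        exact congrArg (fun m : Y.left ⟶ S => m z) (Over.w q).symm
      rw [this]
      exact hzU
    obtain ⟨r, hr⟩ := hz
    obtain ⟨w, hw, -⟩ := Scheme.Pullback.exists_preimage_pullback (f := Y.hom) (g := g) z r hr.symm
    exact ⟨w, hw⟩⟩
  haveI := (FpqcDescLib.covers_of_isCovering (FpqcDescLib.isCovering_of_lfp (pullback.fst Y.hom g))).over_epi (p := p')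
  rw [← cancel_epi p', ← Category.assoc, ← Category.assoc]
  refine Over.OverMorphism.ext (Scheme.hom_ext_of_forall _ _ fun z => ?_)
  obtain ⟨O, hO, hzO, -⟩ := exists_isAffineOpen_mem_and_subset (show z ∈ (⊤ : Y'.left.Opens) from trivial)
  refine ⟨O, hzO, ?_⟩
  let B : Type u := Γ(Y'.left, O)
  let θ : Rs →+* B := (Spec.preimage (hO.fromSpec ≫ pullback.snd Y.hom g)).hom
  letI : Algebra R B := (θ.comp (algebraMap R Rs)).toAlgebra
  let i : sp β B ⟶ Y' := Over.homMk hO.fromSpec (by
    show hO.fromSpec ≫ pullback.fst Y.hom g ≫ Y.hom = Spec.map (CommRingCat.ofHom (algebraMap R B)) ≫ β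
    rw [pullback.condition, RingHom.algebraMap_toAlgebra, CommRingCat.ofHom_comp, Spec.map_comp, Category.assoc,
      show CommRingCat.ofHom θ = Spec.preimage (hO.fromSpec ≫ pullback.snd Y.hom g) from CommRingCat.ofHom_hom _,
      Spec.map_preimage, Category.assoc])
  obtain ⟨c, hc⟩ := (hbij B).2 (i ≫ p' ≫ h)
  have h1 := hfix B (by
    rw [RingHom.algebraMap_toAlgebra, RingHom.comp_apply]
    exact (IsLocalization.Away.algebraMap_isUnit s₀).map θ) c
  rw [MonObj.comp_one, twist_one_iff, hc] at h1
  have h2 := congrArg (fun m => m.left) h1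
  simp only [Category.assoc, Over.comp_left, i, Over.homMk_left] at h2
  simp only [Category.assoc, Over.comp_left]
  rw [← hO.isoSpec_hom_fromSpec, Category.assoc, Category.assoc]
  exact congrArg (hO.isoSpec.hom ≫ ·) h2

end Groth.Agent.SubgroupNbhd
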